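import Mathlib.Algebra.Homology.QuasiIso
import Mathlib.Algebra.Homology.SingleHomology
import Mathlib.Algebra.Homology.ShortComplex.ModuleCat
import Mathlib.Algebra.Category.ModuleCat.Abelian
import Mathlib.CategoryTheory.Abelian.Projective.Resolution

/-!
# Left resolutions of modules by modules of a given class

`exists_resolution`: let `P`, `Q` be properties of `R`-modules such that each module with `P` is a quotient
`q : X → M` of a module `X` with `Q` such that `ker q` has `P`; then each module with `P` has a left resolution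
by modules with `Q`.
-/

set_option autoImplicit false
universe u

open CategoryTheory

namespace K163.Resol

variable {R : Type u} [CommRing R]

section Cx

variable (X : ℕ → ModuleCat.{u} R) (d : ∀ n, X (n + 1) ⟶ X n)
  (hd : ∀ (n : ℕ) (x : X (n + 1)), (d n).hom x = 0 ↔ ∃ y, (d (n + 1)).hom y = x)
  (M : ModuleCat.{u} R) (q : X 0 ⟶ M) (hq : Function.Surjective q.hom)
  (hdq : ∀ x : X 0, q.hom x = 0 ↔ ∃ y, (d 0).hom y = x)

include hd in
theorem d_comp (n : ℕ) : d (n + 1) ≫ d n = 0 := by
  ext x
  exact (hd n _).2 ⟨x, rfl⟩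

include hdq in
theorem d_comp_q : d 0 ≫ q = 0 := by
  ext x
  exact (hdq _).2 ⟨x, rfl⟩

/-- the complex -/
noncomputable def cx : ChainComplex (ModuleCat.{u} R) ℕ := ChainComplex.of X d (d_comp X d hd)

theorem cx_d (n : ℕ) : (cx X d hd).d (n + 1) n = d n := by
  unfold cx
  exact ChainComplex.of_d _ _ _

/-- the augmentation -/
noncomputable def aug : cx X d hd ⟶ (ChainComplex.single₀ (ModuleCat.{u} R)).obj M :=
  (ChainComplex.toSingle₀Equiv (cx X d hd) M).symm
    ⟨(q : (cx X d hd).X 0 ⟶ M), by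
      have h : (cx X d hd).d 1 0 = d 0 := cx_d X d hd 0
      rw [h]
      exact d_comp_q X d M q hdq⟩

theorem aug_f : (aug X d hd M q hdq).f 0 = q := by
  unfold aug
  exact ChainComplex.toSingle₀Equiv_symm_apply_f_zero _ _

theorem exactAt (n : ℕ) : (cx X d hd).ExactAt (n + 1) := by
  have hS : (ShortComplex.mk _ _ (d_comp X d hd n)).Exact := by
    rw [ShortComplex.moduleCat_exact_iff]
    exact fun x hx => (hd n x).1 hx
  rw [HomologicalComplex.exactAt_iff' _ (n + 1 + 1) (n + 1) n (by simp) (by simp)]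
  refine (ShortComplex.exact_iff_of_iso ?_).2 hS
  refine ShortComplex.isoMk (Iso.refl _) (Iso.refl _) (Iso.refl _) ?_ ?_
  · exact (Category.id_comp _).trans ((cx_d X d hd (n + 1)).symm.trans (Category.comp_id _).symm)
  · exact (Category.id_comp _).trans ((cx_d X d hd n).symm.trans (Category.comp_id _).symm)

include hq in
theorem quasiIso_aug : QuasiIso (aug X d hd M q hdq) := ⟨fun n => by
  cases n
  · rw [ChainComplex.quasiIsoAt₀_iff, ShortComplex.quasiIso_iff_of_zeros']
    · have hep : Epi q := (ModuleCat.epi_iff_surjective _).2 hq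
      have hex : (ShortComplex.mk _ _ (d_comp_q X d M q hdq)).Exact := by
        rw [ShortComplex.moduleCat_exact_iff]
        exact fun x hx => (hdq x).1 hx
      refine (ShortComplex.exact_and_epi_g_iff_of_iso ?_).2 ⟨hex, hep⟩
      refine ShortComplex.isoMk (Iso.refl _) (Iso.refl _) (Iso.refl _) ?_ ?_
      · exact (Category.id_comp _).trans ((cx_d X d hd 0).symm.trans (Category.comp_id _).symm)
      · exact (Category.id_comp _).trans ((aug_f X d hd M q hdq).symm.trans (Category.comp_id _).symm)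
    all_goals rfl
  · rw [quasiIsoAt_iff_exactAt']
    · apply exactAt
    · apply ChainComplex.exactAt_succ_single_obj⟩

end Cx

variable (P Q : ModuleCat.{u} R → Prop)

/-- the data of the step -/
structure Step (M : ModuleCat.{u} R) where
  X : ModuleCat.{u} R
  hX : Q X
  q : X ⟶ M
  surj : Function.Surjective q.hom
  hK : P (ModuleCat.of R (LinearMap.ker q.hom))

/-- state of the recursion -/
structure St where
  M : ModuleCat.{u} R
  hM : P M
  s : Step P Q M

variable (H : ∀ M : ModuleCat.{u} R, P M → Nonempty (Step P Q M)) (M : ModuleCat.{u} R) (hM : P M)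

noncomputable def next (s : St P Q) : St P Q :=
  ⟨ModuleCat.of R (LinearMap.ker s.s.q.hom), s.s.hK, (H _ s.s.hK).some⟩

/-- the differential -/
noncomputable def dd (s : St P Q) : (next P Q H s).s.X ⟶ s.s.X :=
  (next P Q H s).s.q ≫ ModuleCat.ofHom (LinearMap.ker s.s.q.hom).subtype

theorem dd_eq_zero_iff (s : St P Q) (x : (next P Q H s).s.X) :
    (dd P Q H s).hom x = 0 ↔ (next P Q H s).s.q.hom x = 0 := by
  constructor
  · intro h
    exact Subtype.ext h
  · intro h
    exact congrArg Subtype.val h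

theorem q_eq_zero_iff (s : St P Q) (x : s.s.X) :
    s.s.q.hom x = 0 ↔ ∃ y, (dd P Q H s).hom y = x := by
  constructor
  · intro hx
    obtain ⟨y, hy⟩ := (next P Q H s).s.surj (⟨x, hx⟩ : LinearMap.ker s.s.q.hom)
    exact ⟨y, congrArg Subtype.val hy⟩
  · rintro ⟨y, rfl⟩
    exact Subtype.property (p := fun x => s.s.q.hom x = 0) ((next P Q H s).s.q.hom y)

noncomputable def seq (s : St P Q) : ℕ → St P Q
  | 0 => s
  | n + 1 => next P Q H (seq s n)

include H hM in
theorem exists_resolution :
    ∃ (K : ChainComplex (ModuleCat.{u} R) ℕ) (π : K ⟶ (ChainComplex.single₀ (ModuleCat.{u} R)).obj M),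
      QuasiIso π ∧ ∀ i : ℕ, Q (K.X i) := by
  let s₀ : St P Q := ⟨M, hM, (H M hM).some⟩
  let X : ℕ → ModuleCat.{u} R := fun n => (seq P Q H s₀ n).s.X
  let d : ∀ n, X (n + 1) ⟶ X n := fun n => dd P Q H (seq P Q H s₀ n)
  have hd : ∀ (n : ℕ) (x : X (n + 1)), (d n).hom x = 0 ↔ ∃ y, (d (n + 1)).hom y = x := fun n x =>
    (dd_eq_zero_iff P Q H (seq P Q H s₀ n) x).trans (q_eq_zero_iff P Q H (seq P Q H s₀ (n + 1)) x)
  refine ⟨cx X d hd, aug X d hd M s₀.s.q (fun x => q_eq_zero_iff P Q H s₀ x),
    quasiIso_aug X d hd M s₀.s.q s₀.s.surj (fun x => q_eq_zero_iff P Q H s₀ x),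
    fun i => (seq P Q H s₀ i).s.hX⟩

end K163.Resol
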