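import Groth.Prelude.Def_Wider
import Groth.Agent.LoccohB.LBC
import Groth.Agent.PerfC.RetractPerf
import Groth.Agent.Sga4h.KProjFun
import Groth.Agent.Ega3B.TFunBC
import Groth.Agent.CohtopB.LeftRes
import Groth.Agent.Ega3A.TorLES
import Mathlib.LinearAlgebra.TensorProduct.Quotient

/-!
# Vanishing of `K ⊗^L N` in positive degrees for `N` killed by a power of `I`
-/

set_option autoImplicit false
set_option linter.unusedSectionVars false
universe u

open CategoryTheory Limits MonoidalCategory
open scoped TensorProduct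

attribute [local instance] HasDerivedCategory.standard

namespace K163.TorKill

open Groth.Agent DerivedCategory

variable {R : Type u} [CommRing R]

/-- the complex `P ⊗ M` -/
noncomputable abbrev tc (M : ModuleCat.{u} R) (P : CochainComplex (ModuleCat.{u} R) ℤ) :
    CochainComplex (ModuleCat.{u} R) ℤ :=
  ((tensorRight M).mapHomologicalComplex (ComplexShape.up ℤ)).obj P

section

variable (M : ModuleCat.{u} R) [DRing.HasLTensor R M]

/-- The counit. -/
noncomputable def counit : Qh ⋙ DRing.LTensor R M ⟶ DRing.tensorKh R M :=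
  (DRing.tensorKh R M).totalLeftDerivedCounit Qh
    (HomotopyCategory.quasiIso (ModuleCat.{u} R) (ComplexShape.up ℤ))

instance : (DRing.LTensor R M).IsLeftDerivedFunctor (counit M)
    (HomotopyCategory.quasiIso (ModuleCat.{u} R) (ComplexShape.up ℤ)) := by
  unfold counit
  infer_instance

instance isIso_counit_app (P : CochainComplex (ModuleCat.{u} R) ℤ) [P.IsKProjective] :
    IsIso ((counit M).app ((HomotopyCategory.quotient _ _).obj P)) :=
  LoccohB.LBC.isIso_app R _ (counit M) P

/-- `(Q P) ⊗^L M ≅ Q (P ⊗ M)` for `P` K-projective. -/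
noncomputable def ltIso (P : CochainComplex (ModuleCat.{u} R) ℤ) [P.IsKProjective] :
    (DRing.LTensor R M).obj (Q.obj P) ≅ Q.obj (tc M P) :=
  let e := asIso ((counit M).app ((HomotopyCategory.quotient _ _).obj P))
  e

theorem subsingleton_HD_iff {P : CochainComplex (ModuleCat.{u} R) ℤ} [P.IsKProjective] {K : Dual.D R}
    (e : K ≅ Q.obj P) (i : ℤ) :
    Subsingleton (Dual.HD R ((DRing.LTensor R M).obj K) i) ↔ IsZero ((tc M P).homology i) := by
  let e1 : (homologyFunctor (ModuleCat.{u} R) i).obj ((DRing.LTensor R M).obj K) ≅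
      (tc M P).homology i :=
    (homologyFunctor (ModuleCat.{u} R) i).mapIso ((DRing.LTensor R M).mapIso e ≪≫ ltIso M P) ≪≫
      (homologyFunctorFactors (ModuleCat.{u} R) i).app (tc M P)
  rw [← e1.isZero_iff]
  exact ModuleCat.isZero_iff_subsingleton.symm

end

section Killed

variable (I : Ideal R)

theorem nonempty_iso (N : ModuleCat.{u} R) (hN : ∀ a ∈ I, ∀ x : N, a • x = 0) :
    Nonempty ((Ega3B.TFunBC.resB (Ideal.Quotient.mk I) ⊗ N : ModuleCat.{u} R) ≅ N) := by
  have h : (I • (⊤ : Submodule R N)) = ⊥ := by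
    rw [eq_bot_iff, Submodule.smul_le]
    intro a ha x _
    rw [hN a ha x]
    exact Submodule.zero_mem _
  let e : ((R ⧸ I) ⊗[R] N) ≃ₗ[R] N :=
    (TensorProduct.quotTensorEquivQuotSMul N I).trans (Submodule.quotEquivOfEqBot _ h)
  exact ⟨e.toModuleIso⟩

theorem nonempty_iso' : Nonempty (Ega3B.TFunBC.resB (Ideal.Quotient.mk I) ≅
    ModuleCat.of R (R ⧸ I)) := by
  let e : (Ega3B.TFunBC.resB (Ideal.Quotient.mk I)) ≃ₗ[R] (R ⧸ I) :=
    { toFun := fun x => x
      map_add' := fun _ _ => rfl
      map_smul' := fun _ _ => rfl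
      invFun := fun x => x
      left_inv := fun _ => rfl
      right_inv := fun _ => rfl }
  exact ⟨e.toModuleIso⟩

theorem nonempty_natIso (N : ModuleCat.{u} R) (hN : ∀ a ∈ I, ∀ x : N, a • x = 0) :
    Nonempty (ModuleCat.extendScalars (Ideal.Quotient.mk I) ⋙
      ModuleCat.restrictScalars (Ideal.Quotient.mk I) ⋙ tensorRight N ≅ tensorRight N) := by
  obtain ⟨e⟩ := nonempty_iso I N hN
  exact ⟨(Functor.associator _ _ _).symm ≪≫
    Functor.isoWhiskerRight (Ega3B.TFunBC.extResIso (Ideal.Quotient.mk I)) (tensorRight N) ≪≫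
    (tensorRightTensor _ _).symm ≪≫ (tensoringRight (ModuleCat.{u} R)).mapIso e⟩

/-- functor isomorphisms on complexes -/
noncomputable def cxIso {C D : Type*} [Category* C] [Category* D] [Preadditive C] [Preadditive D]
    {F G : C ⥤ D} [F.Additive] [G.Additive] (e : F ≅ G) (K : CochainComplex C ℤ) :
    (F.mapHomologicalComplex (ComplexShape.up ℤ)).obj K ≅
      (G.mapHomologicalComplex (ComplexShape.up ℤ)).obj K :=
  HomologicalComplex.Hom.isoOfComponents (fun i => e.app (K.X i)) (fun i j _ => by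
    exact (e.hom.naturality (K.d i j)).symm)

theorem killed (P : CochainComplex (ModuleCat.{u} R) ℤ) [P.IsKProjective]
    (hP : ∀ i : ℤ, 0 < i → IsZero ((tc (ModuleCat.of R (R ⧸ I)) P).homology i))
    (N : ModuleCat.{u} R) (hN : ∀ a ∈ I, ∀ x : N, a • x = 0) (i : ℤ) (hi : 0 < i) :
    IsZero ((tc N P).homology i) := by
  let L := ModuleCat.extendScalars.{u, u, u} (Ideal.Quotient.mk I)
  let Rs := ModuleCat.restrictScalars.{u} (Ideal.Quotient.mk I)
  let PB := (L.mapHomologicalComplex (ComplexShape.up ℤ)).obj P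
  have hPB : CochainComplex.IsKProjective PB :=
    Sga4h.KProjFun.isKProjective_map (ModuleCat.extendRestrictScalarsAdj (Ideal.Quotient.mk I)) P
  -- the cohomology of `PB`
  obtain ⟨e1⟩ := nonempty_iso' I
  let e2 : (L ⋙ Rs) ≅ tensorRight (ModuleCat.of R (R ⧸ I)) :=
    Ega3B.TFunBC.extResIso (Ideal.Quotient.mk I) ≪≫ (tensoringRight (ModuleCat.{u} R)).mapIso e1
  have h1 : ∀ j : ℤ, 0 < j → IsZero (PB.homology j) := by
    intro j hj
    have h2 : IsZero ((((L ⋙ Rs).mapHomologicalComplex (ComplexShape.up ℤ)).obj P).homology j) :=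
      (hP j hj).of_iso ((HomologicalComplex.homologyFunctor _ _ j).mapIso (cxIso e2 P))
    rw [← HomologicalComplex.exactAt_iff_isZero_homology] at h2 ⊢
    exact (ShortComplex.exact_map_iff_of_faithful _ Rs).1 h2
  obtain ⟨F, α, hF1, hF2, hα⟩ := CohtopB.LeftRes.exists_left_resolution'
    (fun X : ModuleCat.{u} (R ⧸ I) => Projective X)
    ⟨ModuleCat.of (R ⧸ I) PUnit, ModuleCat.isZero_of_subsingleton _,
      (ModuleCat.isZero_of_subsingleton _).projective⟩
    (fun X => ⟨Projective.over X, Projective.π X, inferInstance, inferInstance⟩) PB 0 h1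
  have hFK : F.IsKProjective := CochainComplex.isKProjective_of_projective F 0
  obtain ⟨φ, ψ, ⟨h⟩⟩ := PerfC.RetractPerf.exists_homotopy (F := PB) (P := F)
    (asIso (Q.map α)).symm
  let T := Rs ⋙ tensorRight N
  have h3 := T.mapHomotopy h
  have h4 : IsZero (((T.mapHomologicalComplex (ComplexShape.up ℤ)).obj PB).homology i) := by
    refine PerfC.RetractPerf.isZero_homology (φ := (T.mapHomologicalComplex
      (ComplexShape.up ℤ)).map (φ ≫ ψ)) ?_ i ?_
    · exact (Homotopy.ofEq ((T.mapHomologicalComplex (ComplexShape.up ℤ)).map_id PB).symm).trans h3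
    · have h5 : IsZero (F.X i) := F.isZero_of_isStrictlyLE 0 i hi
      change T.map ((φ ≫ ψ).f i) = 0
      rw [HomologicalComplex.comp_f, h5.eq_of_tgt (φ.f i) 0, zero_comp]
      exact T.map_zero _ _
  obtain ⟨e3⟩ := nonempty_natIso I N hN
  exact h4.of_iso ((HomologicalComplex.homologyFunctor _ _ i).mapIso
    (cxIso (F := L ⋙ T) e3 P)).symm

end Killed

section Seq

theorem middle (P : CochainComplex (ModuleCat.{u} R) ℤ) (hP : ∀ n, Projective (P.X n))
    (S : ShortComplex (ModuleCat.{u} R)) (hS : S.ShortExact) (i : ℤ)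
    (h1 : IsZero ((tc S.X₁ P).homology i)) (h3 : IsZero ((tc S.X₃ P).homology i)) :
    IsZero ((tc S.X₂ P).homology i) := by
  let f : tc S.X₁ P ⟶ tc S.X₂ P :=
    (NatTrans.mapHomologicalComplex ((tensoringRight (ModuleCat.{u} R)).map S.f)
      (ComplexShape.up ℤ)).app P
  let g : tc S.X₂ P ⟶ tc S.X₃ P :=
    (NatTrans.mapHomologicalComplex ((tensoringRight (ModuleCat.{u} R)).map S.g)
      (ComplexShape.up ℤ)).app P
  have hfg : f ≫ g = 0 := by
    ext n : 1
    change (P.X n ◁ S.f) ≫ (P.X n ◁ S.g) = 0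
    rw [← MonoidalCategory.whiskerLeft_comp, S.zero]
    exact (tensorLeft (P.X n)).map_zero _ _
  have hT : (ShortComplex.mk f g hfg).ShortExact := by
    refine HomologicalComplex.shortExact_of_degreewise_shortExact _ fun n => ?_
    have hn := hP n
    have hfl : Module.Flat R (P.X n) := by
      have : Module.Projective R (P.X n) := (IsProjective.iff_projective _).2 hn
      infer_instance
    exact Ega3A.TorLES.shortExact_map_tensorLeft hS (P.X n)
  exact (hT.homology_exact₂ i).isZero_of_both_zeros (h1.eq_of_src _ _) (h3.eq_of_tgt _ _)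

theorem main (I : Ideal R) (P : CochainComplex (ModuleCat.{u} R) ℤ) [P.IsKProjective]
    (hP : ∀ i : ℤ, 0 < i → IsZero ((tc (ModuleCat.of R (R ⧸ I)) P).homology i))
    (hproj : ∀ n, Projective (P.X n)) : ∀ (n : ℕ) (N : Type u) [AddCommGroup N] [Module R N]
    (_ : I ^ n • (⊤ : Submodule R N) = ⊥) (i : ℤ) (_ : 0 < i),
    IsZero ((tc (ModuleCat.of R N) P).homology i)
  | 0, N, _, _, hN, i, hi => by
    refine killed I P hP (ModuleCat.of R N) (fun a _ x => ?_) i hi
    rw [pow_zero, Submodule.one_smul] at hN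
    have : x ∈ (⊤ : Submodule R N) := trivial
    rw [hN] at this
    rw [(Submodule.mem_bot R).1 this]
    exact smul_zero _
  | n + 1, N, _, _, hN, i, hi => by
    let N' : Submodule R N := I • ⊤
    have h1 : I ^ n • (⊤ : Submodule R N') = ⊥ := by
      apply Submodule.map_injective_of_injective N'.subtype_injective
      rw [Submodule.map_smul'', Submodule.map_top, Submodule.range_subtype, Submodule.map_bot,
        ← Submodule.mul_smul, ← pow_succ, hN]
    have h2 := main I P hP hproj n N' h1 i hi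
    have h3 := killed I P hP (ModuleCat.of R (N ⧸ N')) (fun a ha x => by
      obtain ⟨x, rfl⟩ := Submodule.Quotient.mk_surjective _ x
      rw [← Submodule.Quotient.mk_smul, Submodule.Quotient.mk_eq_zero]
      exact Submodule.smul_mem_smul ha trivial) i hi
    have hS : (ShortComplex.mk (ModuleCat.ofHom N'.subtype) (ModuleCat.ofHom N'.mkQ) (by
        ext x
        simp)).ShortExact := by
      refine ModuleCat.shortComplex_shortExact _ ?_ ?_ ?_
      · exact LinearMap.exact_subtype_mkQ N'
      · exact N'.subtype_injective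
      · exact N'.mkQ_surjective
    exact middle P hproj _ hS i h2 h3

end Seq

end K163.TorKill
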